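import Mathlib
import Groth.Agent.Lib.Helper5.Ext.C
import Groth.Agent.Lib.Helper5.Glue.G
import Groth.Agent.Lib.Lead.QC.SepAmple

/-!
# Invertible modules with a section, described by local equations
-/

set_option autoImplicit false
universe u
open CategoryTheory CategoryTheory.Limits AlgebraicGeometry TopologicalSpace Opposite

namespace Groth.Agent.H5.Lift

open Groth.Agent.LD Groth.Agent.LD.QC Groth.Agent.H5.Glue Groth.Agent.H5.Ext

variable {X : Scheme.{u}} {ι : Type u} (W : ι → X.Opens) (c : ∀ i, Γ(X, W i))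

/-- **The invertible module with a section cut out by local equations `c i` on `W i`** (with the
local bases exported). -/
theorem exists_invertible_of_equations' (hW : iSup W = ⊤)
    (hc : ∀ i j, i ≠ j → W i ⊓ W j ≤ X.basicOpen (c i)) :
    ∃ (L : X.Modules) (s : unitMod X ⟶ L) (e : ∀ i, Γ(L, W i)), PicF.IsInvertible L ∧
      (∀ i, IsBasisOver L (W i) (e i)) ∧ ∀ i, SecTwist.val s (W i) = c i • e i := by
  have hcoc := isCocycle_ηc W c hc
  have hunit : ∀ i, IsUnit (ηc W c hc i i) := fun i => by rw [ηc_self]; exact isUnit_one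
  have hL := isInvertible_glueMod hcoc hunit hW
  have hcompat : ∀ i j, mres _ (inf_le_left : W i ⊓ W j ≤ W i) (c i • glueGen hcoc i) =
      mres _ (inf_le_right : W i ⊓ W j ≤ W j) (c j • glueGen hcoc j) := by
    intro i j
    rw [mres_smul, mres_smul]
    have h1 := glueGen_transition hcoc i j
    change mres _ _ (glueGen hcoc i) = _ • mres _ _ (glueGen hcoc j) at h1
    rw [h1, smul_smul, mul_ηc]
  obtain ⟨ts, hts, -⟩ := existsUnique_glue_sec _ W hW (fun i => c i • glueGen hcoc i) hcompat
  refine ⟨_, homOfSection _ ts, fun i => glueGen hcoc i, hL,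
    fun i => isBasisOver_glueGen hcoc hunit i, fun i => ?_⟩
  rw [val_homOfSection]; exact hts i

/-- **Two invertible modules with sections having the same local equations are isomorphic.** -/
theorem nonempty_iso_of_same_equations (hW : iSup W = ⊤)
    (hc : ∀ i j, i ≠ j → W i ⊓ W j ≤ X.basicOpen (c i))
    {L L' : X.Modules} (s : unitMod X ⟶ L) (s' : unitMod X ⟶ L')
    (e : ∀ i, Γ(L, W i)) (e' : ∀ i, Γ(L', W i))
    (he : ∀ i, IsBasisOver L (W i) (e i)) (he' : ∀ i, IsBasisOver L' (W i) (e' i))
    (hs : ∀ i, SecTwist.val s (W i) = c i • e i)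
    (hs' : ∀ i, SecTwist.val s' (W i) = c i • e' i) : Nonempty (L ≅ L') := by
  classical
  have key : ∀ (M : X.Modules) (t : unitMod X ⟶ M) (b : ∀ i, Γ(M, W i))
      (_ : ∀ i, SecTwist.val t (W i) = c i • b i) (i j : ι),
      mres M (inf_le_left : W i ⊓ W j ≤ W i) (b i) =
        ηc W c hc i j • mres M (inf_le_right : W i ⊓ W j ≤ W j) (b j) := by
    intro M t b ht i j
    by_cases hij : i = j
    · subst hij
      rw [ηc_self, one_smul]
    · have hu : IsUnit (res (inf_le_left : W i ⊓ W j ≤ W i) (c i)) :=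
        isUnit_res_of_le_basicOpen (c i) inf_le_left (hc i j hij)
      have h1 : mres M (inf_le_left : W i ⊓ W j ≤ W i) (SecTwist.val t (W i)) =
          mres M (inf_le_right : W i ⊓ W j ≤ W j) (SecTwist.val t (W j)) := by
        unfold mres
        rw [QC.val_res, QC.val_res]
      rw [ht i, ht j, mres_smul, mres_smul, ← mul_ηc W c hc i j, mul_smul] at h1
      exact hu.smul_left_cancel.mp h1
  exact nonempty_iso_of_same_transition hW he he' (ηc W c hc) (key L s e hs) (key L' s' e' hs')

end Groth.Agent.H5.Lift
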