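import Mathlib
import Groth.Agent.Lib.Helper5.Lift.A

/-!
# Local equations on a cover `V₀ ∪ ⋃ V k` (equation `1` on `V₀`)
-/

set_option autoImplicit false
universe u
open CategoryTheory CategoryTheory.Limits AlgebraicGeometry TopologicalSpace Opposite

namespace Groth.Agent.H5.Lift

open Groth.Agent.LD Groth.Agent.LD.QC Groth.Agent.H5.Glue Groth.Agent.H5.Ext

variable {X : Scheme.{u}} {κ : Type u} (V₀ : X.Opens) (V : κ → X.Opens) (t : ∀ k, Γ(X, V k))

/-- the cover indexed by `Option κ`. -/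
def optCover : Option κ → X.Opens
  | none => V₀
  | some k => V k

/-- the equations indexed by `Option κ`. -/
def optEq : ∀ o : Option κ, Γ(X, optCover V₀ V o)
  | none => (1 : Γ(X, V₀))
  | some k => t k

lemma iSup_optCover (hcov : ∀ x : X, x ∈ V₀ ∨ ∃ k, x ∈ V k) : iSup (optCover V₀ V) = ⊤ := by
  rw [eq_top_iff]
  intro x _
  rcases hcov x with h | ⟨k, hk⟩
  · exact Opens.mem_iSup.mpr ⟨none, h⟩
  · exact Opens.mem_iSup.mpr ⟨some k, hk⟩

lemma optEq_cond (h0 : ∀ k, V₀ ⊓ V k ≤ X.basicOpen (t k))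
    (hkl : ∀ k l, k ≠ l → V k ⊓ V l ≤ X.basicOpen (t k)) :
    ∀ o o' : Option κ, o ≠ o' →
      optCover V₀ V o ⊓ optCover V₀ V o' ≤ X.basicOpen (optEq V₀ V t o) := by
  intro o o' hoo'
  rcases o with _ | k
  · show V₀ ⊓ _ ≤ X.basicOpen (1 : Γ(X, V₀))
    rw [X.basicOpen_of_isUnit isUnit_one]
    exact inf_le_left
  · rcases o' with _ | l
    · show V k ⊓ V₀ ≤ X.basicOpen (t k)
      rw [inf_comm]; exact h0 k
    · show V k ⊓ V l ≤ X.basicOpen (t k)
      exact hkl k l (fun h => hoo' (by rw [h]))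

/-- **Existence**: the invertible module with section cut out by `t k` on `V k` and generating on
`V₀`. -/
theorem exists_invertible_of_family (hcov : ∀ x : X, x ∈ V₀ ∨ ∃ k, x ∈ V k)
    (h0 : ∀ k, V₀ ⊓ V k ≤ X.basicOpen (t k))
    (hkl : ∀ k l, k ≠ l → V k ⊓ V l ≤ X.basicOpen (t k)) :
    ∃ (L : X.Modules) (s : unitMod X ⟶ L) (e : ∀ k, Γ(L, V k)), PicF.IsInvertible L ∧
      V₀ ≤ CohB1.genLocus L s ∧ (∀ k, IsBasisOver L (V k) (e k)) ∧
      ∀ k, SecTwist.val s (V k) = t k • e k := by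
  obtain ⟨L, s, e, hL, he, hs⟩ := exists_invertible_of_equations' (optCover V₀ V) (optEq V₀ V t)
    (iSup_optCover V₀ V hcov) (optEq_cond V₀ V t h0 hkl)
  refine ⟨L, s, fun k => e (some k), hL, ?_, fun k => he (some k), fun k => hs (some k)⟩
  rw [le_genLocus_iff_isBasisOver]
  have h1 : SecTwist.val s V₀ = e none := by
    have := hs none
    change SecTwist.val s V₀ = (1 : Γ(X, V₀)) • (show Γ(L, V₀) from e none) at this
    rw [this, one_smul]
  rw [h1]
  exact he none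

/-- **Uniqueness**: two such modules are isomorphic. -/
theorem nonempty_iso_of_family (hcov : ∀ x : X, x ∈ V₀ ∨ ∃ k, x ∈ V k)
    (h0 : ∀ k, V₀ ⊓ V k ≤ X.basicOpen (t k))
    (hkl : ∀ k l, k ≠ l → V k ⊓ V l ≤ X.basicOpen (t k))
    {L L' : X.Modules} (s : unitMod X ⟶ L) (s' : unitMod X ⟶ L')
    (hs₀ : V₀ ≤ CohB1.genLocus L s) (hs₀' : V₀ ≤ CohB1.genLocus L' s')
    (e : ∀ k, Γ(L, V k)) (e' : ∀ k, Γ(L', V k))
    (he : ∀ k, IsBasisOver L (V k) (e k)) (he' : ∀ k, IsBasisOver L' (V k) (e' k))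
    (hs : ∀ k, SecTwist.val s (V k) = t k • e k)
    (hs' : ∀ k, SecTwist.val s' (V k) = t k • e' k) : Nonempty (L ≅ L') := by
  let b : ∀ o : Option κ, Γ(L, optCover V₀ V o) := fun o =>
    match o with
    | none => SecTwist.val s V₀
    | some k => e k
  let b' : ∀ o : Option κ, Γ(L', optCover V₀ V o) := fun o =>
    match o with
    | none => SecTwist.val s' V₀
    | some k => e' k
  refine nonempty_iso_of_same_equations (optCover V₀ V) (optEq V₀ V t)
    (iSup_optCover V₀ V hcov) (optEq_cond V₀ V t h0 hkl) s s' b b' ?_ ?_ ?_ ?_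
  · rintro (_ | k)
    · exact (le_genLocus_iff_isBasisOver L s V₀).mp hs₀
    · exact he k
  · rintro (_ | k)
    · exact (le_genLocus_iff_isBasisOver L' s' V₀).mp hs₀'
    · exact he' k
  · rintro (_ | k)
    · show SecTwist.val s V₀ = (1 : Γ(X, V₀)) • SecTwist.val s V₀
      rw [one_smul]
    · exact hs k
  · rintro (_ | k)
    · show SecTwist.val s' V₀ = (1 : Γ(X, V₀)) • SecTwist.val s' V₀
      rw [one_smul]
    · exact hs' k

end Groth.Agent.H5.Lift
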