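import Mathlib
import Groth.Agent.Lib.Helper5.Lim.ConnComponents

/-!
# Topology: connected components of closed sets meeting a closed subspace in a point
-/

set_option autoImplicit false
universe u
open TopologicalSpace Topology

namespace Groth.Agent.H5.Lift

/-- the connected component of a point in a closed subset of a Noetherian space: closed, connected,
and relatively open. -/
theorem exists_component_in_closed {X : Type*} [TopologicalSpace X] [NoetherianSpace X]
    (F : Set X) (hF : IsClosed F) (x : X) (hxF : x ∈ F) :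
    ∃ C : Set X, IsClosed C ∧ IsConnected C ∧ x ∈ C ∧ C ⊆ F ∧ ∃ O : Set X, IsOpen O ∧ C = F ∩ O := by
  let x' : ↥F := ⟨x, hxF⟩
  have hfin : (irreducibleComponents ↥F).Finite := NoetherianSpace.finite_irreducibleComponents
  have hop : IsOpen (connectedComponent x') :=
    Groth.Agent.H5.Lim.isOpen_connectedComponent_of_finite hfin x'
  obtain ⟨O, hO, hOeq⟩ := isOpen_induced_iff.mp hop
  refine ⟨Subtype.val '' connectedComponent x', ?_, ?_, ⟨x', mem_connectedComponent, rfl⟩, ?_,
    O, hO, ?_⟩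
  · exact hF.isClosedEmbedding_subtypeVal.isClosedMap _ isClosed_connectedComponent
  · exact isConnected_connectedComponent.image _ continuous_subtype_val.continuousOn
  · rintro _ ⟨y, -, rfl⟩; exact y.2
  · rw [← hOeq, Subtype.image_preimage_coe]

/-- **Key topological lemma.**  Let `X₀ ⊆ X` be such that every nonempty connected closed subset
of the Noetherian space `X` meets `X₀` in a nonempty connected set.  If `F` is closed, `U` open,
`x ∈ F ∩ U ∩ X₀` a closed point with `F ∩ U ∩ X₀ ⊆ {x}`, then the connected component `C` of `x` in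
`F` is closed in `X`, contained in `U`, relatively open in `F` and meets `X₀` exactly in `x`. -/
theorem exists_closed_component {X : Type*} [TopologicalSpace X] [NoetherianSpace X] (X₀ : Set X)
    (hb : ∀ Y : Set X, IsClosed Y → Y.Nonempty → IsConnected Y →
      (Y ∩ X₀).Nonempty ∧ IsConnected (Y ∩ X₀))
    (U : Set X) (hU : IsOpen U) (F : Set X) (hF : IsClosed F) (x : X) (hxF : x ∈ F) (hxU : x ∈ U)
    (hx₀ : x ∈ X₀) (hxc : IsClosed ({x} : Set X)) (hFU : F ∩ U ∩ X₀ ⊆ {x}) :
    ∃ C : Set X, IsClosed C ∧ IsConnected C ∧ x ∈ C ∧ C ⊆ F ∩ U ∧ C ∩ X₀ = {x} ∧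
      ∃ O : Set X, IsOpen O ∧ C = F ∩ O := by
  obtain ⟨C, hCcl, hCconn, hxC, hCF, O, hO, hCO⟩ := exists_component_in_closed F hF x hxF
  -- `C ∩ X₀ = {x}`
  have hS : C ∩ X₀ = {x} := by
    have hconn := (hb C hCcl hCconn.nonempty hCconn).2
    apply Set.Subset.antisymm
    · intro y hy
      by_contra hyx
      have hsub : C ∩ X₀ ⊆ U ∪ ({x} : Set X)ᶜ := by
        intro w hw
        by_cases hwx : w = x
        · left; rw [hwx]; exact hxU
        · right; exact hwx
      obtain ⟨w, hw, hwU, hwx⟩ := hconn.isPreconnected U ({x} : Set X)ᶜ hU hxc.isOpen_compl hsub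
        ⟨x, ⟨hxC, hx₀⟩, hxU⟩ ⟨y, hy, hyx⟩
      exact hwx (hFU ⟨⟨hCF hw.1, hwU⟩, hw.2⟩)
    · rintro _ rfl; exact ⟨hxC, hx₀⟩
  -- `C ⊆ U`
  have hCU : C ⊆ U := by
    intro y hyC
    by_contra hyU
    have hTcl : IsClosed (C ∩ Uᶜ) := hCcl.inter hU.isClosed_compl
    obtain ⟨T', hT'cl, hT'conn, -, hT'sub, -⟩ :=
      exists_component_in_closed (C ∩ Uᶜ) hTcl y ⟨hyC, hyU⟩
    obtain ⟨w, hwT', hw₀⟩ := (hb T' hT'cl hT'conn.nonempty hT'conn).1
    have hwx : w = x := by
      have : w ∈ C ∩ X₀ := ⟨(hT'sub hwT').1, hw₀⟩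
      rw [hS] at this; exact this
    exact (hT'sub hwT').2 (hwx ▸ hxU)
  exact ⟨C, hCcl, hCconn, hxC, fun y hy => ⟨hCF hy, hCU hy⟩, hS, O, hO, hCO⟩

/-- two such components at distinct points are disjoint. -/
theorem disjoint_of_components {X : Type*} [TopologicalSpace X] (X₀ : Set X)
    (hb : ∀ Y : Set X, IsClosed Y → Y.Nonempty → IsConnected Y →
      (Y ∩ X₀).Nonempty ∧ IsConnected (Y ∩ X₀))
    (C C' : Set X) (hC : IsClosed C) (hC' : IsClosed C') (hCc : IsConnected C)
    (hC'c : IsConnected C') (x x' : X) (hx : C ∩ X₀ = {x}) (hx' : C' ∩ X₀ = {x'})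
    (hxc : IsClosed ({x} : Set X)) (hx'c : IsClosed ({x'} : Set X)) (hne : x ≠ x') :
    Disjoint C C' := by
  rw [Set.disjoint_iff_inter_eq_empty]
  by_contra hne'
  obtain ⟨y, hyC, hyC'⟩ := Set.nonempty_iff_ne_empty.mpr hne'
  have hconn : IsConnected (C ∪ C') := IsConnected.union ⟨y, hyC, hyC'⟩ hCc hC'c
  have h2 := (hb (C ∪ C') (hC.union hC') hconn.nonempty hconn).2
  have heq : (C ∪ C') ∩ X₀ = {x, x'} := by
    rw [Set.union_inter_distrib_right, hx, hx']; rfl
  rw [heq] at h2
  obtain ⟨w, hw, hwx, hwx'⟩ := h2.isPreconnected ({x} : Set X)ᶜ ({x'} : Set X)ᶜ hxc.isOpen_compl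
    hx'c.isOpen_compl (by
      intro w hw
      rcases hw with rfl | rfl
      · right; exact hne
      · left; exact fun h => hne h.symm)
    ⟨x', Or.inr rfl, fun h => hne h.symm⟩ ⟨x, Or.inl rfl, hne⟩
  rcases hw with rfl | rfl
  · exact hwx rfl
  · exact hwx' rfl

end Groth.Agent.H5.Lift
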