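import Mathlib
import Groth.Agent.Lib.Helper5.Lift.A
import Groth.Agent.Lib.Helper5.Lift.B
import Groth.Agent.Lib.Helper5.Nrm.I
import Groth.Agent.Lib.Lead.QC.AmpleBase
import Groth.Agent.Lib.Lead.QC.PullInv

/-!
# Local lifting data along a closed immersion
-/

set_option autoImplicit false
universe u
open CategoryTheory CategoryTheory.Limits AlgebraicGeometry TopologicalSpace Opposite

namespace Groth.Agent.H5.Lift

open Groth.Agent.LD Groth.Agent.LD.QC Groth.Agent.H5.Glue Groth.Agent.H5.Ext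

variable {X X₀ : Scheme.{u}} (i : X₀ ⟶ X) [IsClosedImmersion i]

/-- **Local lifting data.**  Near a point `z` of `X₀`, an invertible module `M` with a section `s`
whose non-generating locus is a finite set of closed points admits an affine open `U ∋ i z` of `X`,
a basis `e` of `M` over `i⁻¹ U`, and a function `t` on `U` lifting the local equation of `s`. -/
theorem exists_local_lift (M : X₀.Modules) (hM : PicF.IsInvertible M) (s : unitMod X₀ ⟶ M)
    (hfin : ((CohB1.genLocus M s : Set X₀)ᶜ).Finite)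
    (hcl : ∀ z : X₀, z ∉ CohB1.genLocus M s → IsClosed ({z} : Set X₀)) (z : X₀) :
    ∃ (U : X.Opens) (t : Γ(X, U)) (e : Γ(M, i ⁻¹ᵁ U)), IsAffineOpen U ∧ i z ∈ U ∧
      IsBasisOver M (i ⁻¹ᵁ U) e ∧ SecTwist.val s (i ⁻¹ᵁ U) = (i.app U t) • e ∧
      ∀ y ∈ i ⁻¹ᵁ U, y ∉ CohB1.genLocus M s → y = z := by
  classical
  obtain ⟨W, hzW, e₀, he₀⟩ := Groth.Agent.H5.NrmAmple.exists_local_bases (π := i) M hM (i z)
  -- the closed set of the other bad points
  let T : Set X := ⋃ y ∈ ((CohB1.genLocus M s : Set X₀)ᶜ \ {z}), i '' {y}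
  have hT : IsClosed T := by
    refine (hfin.subset Set.sdiff_subset).isClosed_biUnion ?_
    intro y hy
    exact i.isClosedEmbedding.isClosedMap _ (hcl y hy.1)
  have hzT : i z ∉ T := by
    intro h
    simp only [T, Set.mem_iUnion, Set.image_singleton, Set.mem_singleton_iff] at h
    obtain ⟨y, hy, hzy⟩ := h
    exact hy.2 (i.isClosedEmbedding.injective hzy).symm
  obtain ⟨_, ⟨U, hU, rfl⟩, hzU, hUsub⟩ :=
    X.isBasis_affineOpens.exists_subset_of_mem_open
      (show i z ∈ (W : Set X) ∩ Tᶜ from ⟨hzW, hzT⟩) (W.2.inter hT.isOpen_compl)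
  have hUW : i ⁻¹ᵁ U ≤ i ⁻¹ᵁ W := fun y hy => (hUsub hy).1
  have he := he₀.mono hUW
  obtain ⟨a, ha⟩ := he.exists_coord (SecTwist.val s (i ⁻¹ᵁ U))
  obtain ⟨t, rfl⟩ := i.app_surjective U hU a
  refine ⟨U, t, _, hU, hzU, he, ha, ?_⟩
  intro y hy hyg
  by_contra hyz
  apply (hUsub hy).2
  simp only [T, Set.mem_iUnion, Set.image_singleton, Set.mem_singleton_iff]
  exact ⟨y, ⟨hyg, hyz⟩, rfl⟩

end Groth.Agent.H5.Lift
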