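import Mathlib
import Groth.Agent.Lib.Helper5.Lift.A2
import Groth.Agent.Lib.Helper5.Lift.C
import Groth.Agent.Lib.Helper5.Glue.P2

/-!
# Lifting an invertible module with a section along a closed immersion
-/

set_option autoImplicit false
universe u
open CategoryTheory CategoryTheory.Limits AlgebraicGeometry TopologicalSpace Opposite

namespace Groth.Agent.H5.Lift

open Groth.Agent.LD Groth.Agent.LD.QC Groth.Agent.H5.Glue Groth.Agent.H5.Ext

variable {X X₀ : Scheme.{u}} (i : X₀ ⟶ X) [IsClosedImmersion i]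

/-- **Lifting theorem.**  Let `i : X₀ → X` be a closed immersion into a Noetherian scheme such that
every nonempty connected closed subset of `X` meets `X₀` in a nonempty connected set.  An
invertible module on `X₀` with a section whose non-generating locus is a finite set of closed points
is the pullback of an invertible module on `X`. -/
theorem exists_lift [IsNoetherian X]
    (hb : ∀ Y : Set X, IsClosed Y → Y.Nonempty → _root_.IsConnected Y →
      (Y ∩ Set.range i.base).Nonempty ∧ _root_.IsConnected (Y ∩ Set.range i.base))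
    (M : X₀.Modules) (hM : PicF.IsInvertible M) (s : unitMod X₀ ⟶ M)
    (hfin : ((CohB1.genLocus M s : Set X₀)ᶜ).Finite)
    (hcl : ∀ z : X₀, z ∉ CohB1.genLocus M s → IsClosed ({z} : Set X₀)) :
    ∃ L : X.Modules, PicF.IsInvertible L ∧
      Nonempty ((Scheme.Modules.pullback i).obj L ≅ M) := by
  classical
  choose U t e hUaff hzU he hse hUZ using exists_local_lift i M hM s hfin hcl
  let κ := ↥((CohB1.genLocus M s : Set X₀)ᶜ)
  haveI : Finite κ := hfin.to_subtype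
  have hgl : ∀ z : X₀, CohB1.genLocus M s ⊓ i ⁻¹ᵁ U z = i ⁻¹ᵁ X.basicOpen (t z) := by
    intro z
    rw [Scheme.preimage_basicOpen]
    exact genLocus_inf_eq_basicOpen s (he z) _ (hse z)
  have hptcl : ∀ k : κ, IsClosed ({i.base k.1} : Set X) := by
    intro k
    have := i.isClosedEmbedding.isClosedMap _ (hcl k.1 k.2)
    rwa [Set.image_singleton] at this
  -- topology
  have hdata : ∀ k : κ, ∃ C : Set X, IsClosed C ∧ _root_.IsConnected C ∧ i.base k.1 ∈ C ∧
      C ⊆ ((X.basicOpen (t k.1) : Set X)ᶜ) ∩ (U k.1 : Set X) ∧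
      C ∩ Set.range i.base = {i.base k.1} ∧
      ∃ O : Set X, IsOpen O ∧ C = ((X.basicOpen (t k.1) : Set X)ᶜ) ∩ O := by
    intro k
    refine exists_closed_component (Set.range i.base) hb (U k.1 : Set X) (U k.1).2
      ((X.basicOpen (t k.1) : Set X)ᶜ) (X.basicOpen (t k.1)).2.isClosed_compl (i.base k.1) ?_
      (hzU k.1) ⟨k.1, rfl⟩ (hptcl k) ?_
    · intro h
      have h' : k.1 ∈ i ⁻¹ᵁ X.basicOpen (t k.1) := h
      rw [← hgl] at h'
      exact k.2 h'.1
    · rintro _ ⟨⟨hyF, hyU⟩, ⟨w, rfl⟩⟩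
      have hw : w ∉ CohB1.genLocus M s := by
        intro hwg
        apply hyF
        have h' : w ∈ CohB1.genLocus M s ⊓ i ⁻¹ᵁ U k.1 := ⟨hwg, hyU⟩
        rw [hgl] at h'
        exact h'
      rw [hUZ k.1 w hyU hw]
      rfl
  choose C hCcl hCconn hzC hCFU hC₀ O hO hCO using hdata
  have hdisj : ∀ k l : κ, k ≠ l → Disjoint (C k) (C l) := by
    intro k l hkl
    refine disjoint_of_components (Set.range i.base) hb (C k) (C l) (hCcl k) (hCcl l) (hCconn k)
      (hCconn l) _ _ (hC₀ k) (hC₀ l) (hptcl k) (hptcl l) ?_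
    intro h
    exact hkl (Subtype.ext (i.isClosedEmbedding.injective h))
  -- the cover
  let V₀ : X.Opens := ⟨(⋃ k, C k)ᶜ, (isClosed_iUnion_of_finite hCcl).isOpen_compl⟩
  let V : κ → X.Opens := fun k =>
    U k.1 ⊓ (X.basicOpen (t k.1) ⊔ ⟨O k, hO k⟩) ⊓
      ⟨(⋃ l : {l : κ // l ≠ k}, C l.1)ᶜ, (isClosed_iUnion_of_finite (fun l : {l : κ // l ≠ k} => hCcl l.1)).isOpen_compl⟩
  have hVU : ∀ k, V k ≤ U k.1 := fun k => inf_le_left.trans inf_le_left
  let tt : ∀ k, Γ(X, V k) := fun k => res (hVU k) (t k.1)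
  have hbo : ∀ k, X.basicOpen (tt k) = V k ⊓ X.basicOpen (t k.1) := fun k =>
    Scheme.basicOpen_res _ _ _
  have hmem : ∀ k x, x ∈ V k → x ∉ X.basicOpen (t k.1) → x ∈ C k := by
    intro k x hx hxb
    rw [hCO k]
    refine ⟨hxb, ?_⟩
    rcases hx.1.2 with h | h
    · exact absurd h hxb
    · exact h
  have hnot : ∀ k l x, k ≠ l → x ∈ V l → x ∉ C k := by
    intro k l x hkl hx hxC
    apply hx.2
    exact Set.mem_iUnion.mpr ⟨⟨k, hkl⟩, hxC⟩
  have hcov : ∀ x : X, x ∈ V₀ ∨ ∃ k, x ∈ V k := by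
    intro x
    by_cases hx : x ∈ ⋃ k, C k
    · right
      obtain ⟨k, hk⟩ := Set.mem_iUnion.mp hx
      refine ⟨k, ⟨(hCFU k hk).2, Or.inr ?_⟩, ?_⟩
      · have := hk; rw [hCO k] at this; exact this.2
      · intro h
        obtain ⟨l, hl⟩ := Set.mem_iUnion.mp h
        exact (Set.disjoint_left.mp (hdisj k l.1 (fun h => l.2 h.symm)) hk) hl
    · left; exact hx
  have h0 : ∀ k, V₀ ⊓ V k ≤ X.basicOpen (tt k) := by
    intro k x hx
    rw [hbo]
    refine ⟨hx.2, ?_⟩
    by_contra hxb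
    exact hx.1 (Set.mem_iUnion.mpr ⟨k, hmem k x hx.2 hxb⟩)
  have hkl : ∀ k l, k ≠ l → V k ⊓ V l ≤ X.basicOpen (tt k) := by
    intro k l hkl x hx
    rw [hbo]
    refine ⟨hx.1, ?_⟩
    by_contra hxb
    exact hnot k l x hkl hx.2 (hmem k x hx.1 hxb)
  obtain ⟨L, s', e', hL, hs₀', he', hs'⟩ := exists_invertible_of_family V₀ V tt hcov h0 hkl
  haveI : L.IsQuasicoherent := qc_of_isInvertible L hL
  refine ⟨L, hL, ?_⟩
  -- comparison on `X₀`
  have hpre : ∀ k, X₀.basicOpen ((i.app (V k)).hom (tt k)) = i ⁻¹ᵁ X.basicOpen (tt k) := fun k =>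
    (Scheme.preimage_basicOpen i (tt k)).symm
  have hVU' : ∀ k : κ, i ⁻¹ᵁ V k ≤ i ⁻¹ᵁ U k.1 := fun k x hx => hVU k hx
  refine nonempty_iso_of_family (i ⁻¹ᵁ V₀) (fun k => i ⁻¹ᵁ V k)
    (fun k => (i.app (V k)).hom (tt k)) (fun x => ?_) (fun k => ?_) (fun k l hne => ?_)
    (pbHom i s') s ?_ ?_ (fun k => pbSec i L (le_refl _) (e' k))
    (fun k => M.presheaf.map (homOfLE (hVU' k)).op (e k.1)) (fun k => (he' k).pullback i _)
    (fun k => (he k.1).mono (hVU' k)) (fun k => ?_) (fun k => ?_)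
  · rcases hcov (i.base x) with h | ⟨k, hk⟩
    · exact Or.inl h
    · exact Or.inr ⟨k, hk⟩
  · rw [hpre]
    exact fun x hx => h0 k ⟨hx.1, hx.2⟩
  · rw [hpre]
    exact fun x hx => hkl k l hne ⟨hx.1, hx.2⟩
  · rw [genLocus_pbHom i hL s']
    exact fun x hx => hs₀' hx
  · intro x hx
    by_contra hxg
    exact hx (Set.mem_iUnion.mpr ⟨⟨x, hxg⟩, hzC ⟨x, hxg⟩⟩)
  · rw [val_pbHom i s' (le_refl (i ⁻¹ᵁ V k)), hs' k, pbSec_smul, Scheme.Hom.appLE_eq_app]
  · rw [← QC.val_res s (hVU' k), hse k.1]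
    change mres M (hVU' k) _ = _
    rw [mres_smul]
    congr 1
    show res (hVU' k) ((i.app (U k.1)).hom (t k.1)) = (i.app (V k)).hom (res (hVU k) (t k.1))
    rw [Scheme.Hom.app_eq_appLE, Scheme.Hom.app_eq_appLE, res_appLE, appLE_res_left]

end Groth.Agent.H5.Lift
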