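import Mathlib
import Groth.Agent.Lib.Helper5.Lift.D

/-!
# Lifting an invertible module with a section along a closed immersion: abstract topological
hypothesis
-/

set_option autoImplicit false
universe u
open CategoryTheory CategoryTheory.Limits AlgebraicGeometry TopologicalSpace Opposite

namespace Groth.Agent.H5.Lift

open Groth.Agent.LD Groth.Agent.LD.QC Groth.Agent.H5.Glue Groth.Agent.H5.Ext

/-- The topological property used to lift local equations: finitely many "local zero sets"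
`F k ∩ U k` meeting `X₀` at most in the closed point `x k` contain pairwise disjoint closed subsets
`C k ∋ x k` which are relatively open in `F k`. -/
def HasComponents {X : Type u} [TopologicalSpace X] (X₀ : Set X) : Prop :=
  ∀ (κ : Type u) [Finite κ] (U F : κ → Set X) (x : κ → X),
    (∀ k, IsOpen (U k)) → (∀ k, IsClosed (F k)) → (∀ k, x k ∈ F k ∩ U k ∩ X₀) →
    (∀ k, IsClosed ({x k} : Set X)) → (∀ k, F k ∩ U k ∩ X₀ ⊆ {x k}) → Function.Injective x →
    ∃ (C O : κ → Set X), (∀ k, IsClosed (C k)) ∧ (∀ k, x k ∈ C k) ∧ (∀ k, C k ⊆ F k ∩ U k) ∧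
      (∀ k, IsOpen (O k)) ∧ (∀ k, C k = F k ∩ O k) ∧ ∀ k l, k ≠ l → Disjoint (C k) (C l)

/-- the connectedness hypothesis (b) gives the property. -/
theorem hasComponents_of_connected {X : Type u} [TopologicalSpace X] [NoetherianSpace X]
    (X₀ : Set X)
    (hb : ∀ Y : Set X, IsClosed Y → Y.Nonempty → _root_.IsConnected Y →
      (Y ∩ X₀).Nonempty ∧ _root_.IsConnected (Y ∩ X₀)) : HasComponents X₀ := by
  intro κ _ U F x hU hF hx hxc hFU hinj
  have hdata : ∀ k : κ, ∃ C : Set X, IsClosed C ∧ _root_.IsConnected C ∧ x k ∈ C ∧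
      C ⊆ F k ∩ U k ∧ C ∩ X₀ = {x k} ∧ ∃ O : Set X, IsOpen O ∧ C = F k ∩ O := fun k =>
    exists_closed_component X₀ hb (U k) (hU k) (F k) (hF k) (x k) (hx k).1.1 (hx k).1.2 (hx k).2
      (hxc k) (hFU k)
  choose C hCcl hCconn hxC hCFU hC₀ O hO hCO using hdata
  refine ⟨C, O, hCcl, hxC, hCFU, hO, hCO, fun k l hkl => ?_⟩
  exact disjoint_of_components X₀ hb (C k) (C l) (hCcl k) (hCcl l) (hCconn k) (hCconn l) _ _
    (hC₀ k) (hC₀ l) (hxc k) (hxc l) (fun h => hkl (hinj h))

/-- condition (2°) of EGA IV 21.9.11 gives the property. -/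
theorem hasComponents_of_locallyClosed {X : Type u} [TopologicalSpace X] (X₀ : Set X)
    (h2 : ∀ Y : Set X, IsLocallyClosed Y → DiscreteTopology ↥(Y ∩ X₀) →
      ∃ Y' : Set X, Y' ⊆ Y ∧ IsClosed Y' ∧ (∃ O : Set X, IsOpen O ∧ Y' = Y ∩ O) ∧ Y ∩ X₀ ⊆ Y') :
    HasComponents X₀ := by
  classical
  intro κ _ U F x hU hF hx hxc hFU hinj
  -- inductive construction along finite subsets
  have key : ∀ S : Finset κ, ∃ (C O : κ → Set X), (∀ k ∈ S, IsClosed (C k)) ∧
      (∀ k ∈ S, x k ∈ C k) ∧ (∀ k ∈ S, C k ⊆ F k ∩ U k) ∧ (∀ k ∈ S, IsOpen (O k)) ∧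
      (∀ k ∈ S, C k = F k ∩ O k) ∧ ∀ k ∈ S, ∀ l ∈ S, k ≠ l → Disjoint (C k) (C l) := by
    intro S
    induction S using Finset.induction_on with
    | empty =>
      exact ⟨fun _ => ∅, fun _ => ∅, by simp, by simp, by simp, by simp, by simp, by simp⟩
    | insert a S haS ih =>
      obtain ⟨C, O, hCcl, hxC, hCFU, hO, hCO, hdisj⟩ := ih
      have hTcl : IsClosed (⋃ l ∈ S, C l) := S.finite_toSet.isClosed_biUnion hCcl
      let U' : Set X := U a ∩ (⋃ l ∈ S, C l)ᶜ
      have hU' : IsOpen U' := (hU a).inter hTcl.isOpen_compl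
      let Y : Set X := F a ∩ U'
      have hY : IsLocallyClosed Y := (hF a).isLocallyClosed.inter hU'.isLocallyClosed
      have hYsub : Y ∩ X₀ ⊆ {x a} := fun y hy => hFU a ⟨⟨hy.1.1, hy.1.2.1⟩, hy.2⟩
      have hYd : DiscreteTopology ↥(Y ∩ X₀) := by
        haveI : Subsingleton ↥(Y ∩ X₀) :=
          ⟨fun p q => Subtype.ext ((hYsub p.2).trans (hYsub q.2).symm)⟩
        infer_instance
      obtain ⟨Y', hY'Y, hY'cl, ⟨O', hO', hY'O⟩, hY'⟩ := h2 Y hY hYd
      have hxa : x a ∈ Y ∩ X₀ := by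
        refine ⟨⟨(hx a).1.1, (hx a).1.2, ?_⟩, (hx a).2⟩
        intro h
        simp only [Set.mem_iUnion] at h
        obtain ⟨l, hl, hxl⟩ := h
        have : x a = x l := hFU l ⟨hCFU l hl hxl, (hx a).2⟩
        exact haS (hinj this ▸ hl)
      refine ⟨Function.update C a Y', Function.update O a (U' ∩ O'), ?_, ?_, ?_, ?_, ?_, ?_⟩
      · intro k hk
        by_cases hka : k = a
        · subst hka; rw [Function.update_self]; exact hY'cl
        · rw [Function.update_of_ne hka]
          exact hCcl k ((Finset.mem_insert.mp hk).resolve_left hka)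
      · intro k hk
        by_cases hka : k = a
        · subst hka; rw [Function.update_self]; exact hY' hxa
        · rw [Function.update_of_ne hka]
          exact hxC k ((Finset.mem_insert.mp hk).resolve_left hka)
      · intro k hk
        by_cases hka : k = a
        · subst hka; rw [Function.update_self]
          exact fun y hy => ⟨(hY'Y hy).1, (hY'Y hy).2.1⟩
        · rw [Function.update_of_ne hka]
          exact hCFU k ((Finset.mem_insert.mp hk).resolve_left hka)
      · intro k hk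
        by_cases hka : k = a
        · subst hka; rw [Function.update_self]; exact hU'.inter hO'
        · rw [Function.update_of_ne hka]
          exact hO k ((Finset.mem_insert.mp hk).resolve_left hka)
      · intro k hk
        by_cases hka : k = a
        · subst hka; rw [Function.update_self, Function.update_self, hY'O]
          ext y; simp only [Y, Set.mem_inter_iff]; tauto
        · rw [Function.update_of_ne hka, Function.update_of_ne hka]
          exact hCO k ((Finset.mem_insert.mp hk).resolve_left hka)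
      · have hnew : ∀ l ∈ S, Disjoint Y' (C l) := by
          intro l hl
          rw [Set.disjoint_left]
          intro y hy hyl
          exact (hY'Y hy).2.2 (Set.mem_biUnion hl hyl)
        intro k hk l hl hkl
        by_cases hka : k = a
        · subst hka
          have hla : l ≠ k := fun h => hkl h.symm
          rw [Function.update_self, Function.update_of_ne hla]
          exact hnew l ((Finset.mem_insert.mp hl).resolve_left hla)
        · rw [Function.update_of_ne hka]
          by_cases hla : l = a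
          · subst hla
            rw [Function.update_self]
            exact (hnew k ((Finset.mem_insert.mp hk).resolve_left hka)).symm
          · rw [Function.update_of_ne hla]
            exact hdisj k ((Finset.mem_insert.mp hk).resolve_left hka) l
              ((Finset.mem_insert.mp hl).resolve_left hla) hkl
  haveI : Fintype κ := Fintype.ofFinite κ
  obtain ⟨C, O, h1, h2', h3, h4, h5, h6⟩ := key Finset.univ
  exact ⟨C, O, fun k => h1 k (Finset.mem_univ k), fun k => h2' k (Finset.mem_univ k),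
    fun k => h3 k (Finset.mem_univ k), fun k => h4 k (Finset.mem_univ k),
    fun k => h5 k (Finset.mem_univ k),
    fun k l hkl => h6 k (Finset.mem_univ k) l (Finset.mem_univ l) hkl⟩

variable {X X₀ : Scheme.{u}} (i : X₀ ⟶ X) [IsClosedImmersion i]

/-- **Lifting theorem.**  Let `i : X₀ → X` be a closed immersion into a Noetherian scheme such that
every nonempty connected closed subset of `X` meets `X₀` in a nonempty connected set.  An
invertible module on `X₀` with a section whose non-generating locus is a finite set of closed points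
is the pullback of an invertible module on `X`. -/
theorem exists_lift' (hcomp : HasComponents (Set.range i.base))
    (M : X₀.Modules) (hM : PicF.IsInvertible M) (s : unitMod X₀ ⟶ M)
    (hfin : ((CohB1.genLocus M s : Set X₀)ᶜ).Finite)
    (hcl : ∀ z : X₀, z ∉ CohB1.genLocus M s → IsClosed ({z} : Set X₀)) :
    ∃ L : X.Modules, PicF.IsInvertible L ∧
      Nonempty ((Scheme.Modules.pullback i).obj L ≅ M) := by
  classical
  choose U t e hUaff hzU he hse hUZ using exists_local_lift i M hM s hfin hcl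
  let κ := ↥((CohB1.genLocus M s : Set X₀)ᶜ)
  haveI : Finite κ := hfin.to_subtype
  have hgl : ∀ z : X₀, CohB1.genLocus M s ⊓ i ⁻¹ᵁ U z = i ⁻¹ᵁ X.basicOpen (t z) := by
    intro z
    rw [Scheme.preimage_basicOpen]
    exact genLocus_inf_eq_basicOpen s (he z) _ (hse z)
  have hptcl : ∀ k : κ, IsClosed ({i.base k.1} : Set X) := by
    intro k
    have := i.isClosedEmbedding.isClosedMap _ (hcl k.1 k.2)
    rwa [Set.image_singleton] at this
  -- topology
  have hmemF : ∀ k : κ, i.base k.1 ∈ ((X.basicOpen (t k.1) : Set X)ᶜ) := by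
    intro k h
    have h' : k.1 ∈ i ⁻¹ᵁ X.basicOpen (t k.1) := h
    rw [← hgl] at h'
    exact k.2 h'.1
  have hFUsub : ∀ k : κ, ((X.basicOpen (t k.1) : Set X)ᶜ) ∩ (U k.1 : Set X) ∩ Set.range i.base ⊆
      {i.base k.1} := by
    intro k
    rintro _ ⟨⟨hyF, hyU⟩, ⟨w, rfl⟩⟩
    have hw : w ∉ CohB1.genLocus M s := by
      intro hwg
      apply hyF
      have h' : w ∈ CohB1.genLocus M s ⊓ i ⁻¹ᵁ U k.1 := ⟨hwg, hyU⟩
      rw [hgl] at h'
      exact h'
    rw [hUZ k.1 w hyU hw]
    rfl
  obtain ⟨C, O, hCcl, hzC, hCFU, hO, hCO, hdisj⟩ := hcomp κ (fun k => (U k.1 : Set X))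
    (fun k => ((X.basicOpen (t k.1) : Set X)ᶜ)) (fun k => i.base k.1) (fun k => (U k.1).2)
    (fun k => (X.basicOpen (t k.1)).2.isClosed_compl)
    (fun k => ⟨⟨hmemF k, hzU k.1⟩, ⟨k.1, rfl⟩⟩) hptcl hFUsub
    (fun k l h => Subtype.ext (i.isClosedEmbedding.injective h))
  -- the cover
  let V₀ : X.Opens := ⟨(⋃ k, C k)ᶜ, (isClosed_iUnion_of_finite hCcl).isOpen_compl⟩
  let V : κ → X.Opens := fun k =>
    U k.1 ⊓ (X.basicOpen (t k.1) ⊔ ⟨O k, hO k⟩) ⊓
      ⟨(⋃ l : {l : κ // l ≠ k}, C l.1)ᶜ, (isClosed_iUnion_of_finite (fun l : {l : κ // l ≠ k} => hCcl l.1)).isOpen_compl⟩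
  have hVU : ∀ k, V k ≤ U k.1 := fun k => inf_le_left.trans inf_le_left
  let tt : ∀ k, Γ(X, V k) := fun k => res (hVU k) (t k.1)
  have hbo : ∀ k, X.basicOpen (tt k) = V k ⊓ X.basicOpen (t k.1) := fun k =>
    Scheme.basicOpen_res _ _ _
  have hmem : ∀ k x, x ∈ V k → x ∉ X.basicOpen (t k.1) → x ∈ C k := by
    intro k x hx hxb
    rw [hCO k]
    refine ⟨hxb, ?_⟩
    rcases hx.1.2 with h | h
    · exact absurd h hxb
    · exact h
  have hnot : ∀ k l x, k ≠ l → x ∈ V l → x ∉ C k := by
    intro k l x hkl hx hxC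
    apply hx.2
    exact Set.mem_iUnion.mpr ⟨⟨k, hkl⟩, hxC⟩
  have hcov : ∀ x : X, x ∈ V₀ ∨ ∃ k, x ∈ V k := by
    intro x
    by_cases hx : x ∈ ⋃ k, C k
    · right
      obtain ⟨k, hk⟩ := Set.mem_iUnion.mp hx
      refine ⟨k, ⟨(hCFU k hk).2, Or.inr ?_⟩, ?_⟩
      · have := hk; rw [hCO k] at this; exact this.2
      · intro h
        obtain ⟨l, hl⟩ := Set.mem_iUnion.mp h
        exact (Set.disjoint_left.mp (hdisj k l.1 (fun h => l.2 h.symm)) hk) hl
    · left; exact hx
  have h0 : ∀ k, V₀ ⊓ V k ≤ X.basicOpen (tt k) := by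
    intro k x hx
    rw [hbo]
    refine ⟨hx.2, ?_⟩
    by_contra hxb
    exact hx.1 (Set.mem_iUnion.mpr ⟨k, hmem k x hx.2 hxb⟩)
  have hkl : ∀ k l, k ≠ l → V k ⊓ V l ≤ X.basicOpen (tt k) := by
    intro k l hkl x hx
    rw [hbo]
    refine ⟨hx.1, ?_⟩
    by_contra hxb
    exact hnot k l x hkl hx.2 (hmem k x hx.1 hxb)
  obtain ⟨L, s', e', hL, hs₀', he', hs'⟩ := exists_invertible_of_family V₀ V tt hcov h0 hkl
  haveI : L.IsQuasicoherent := qc_of_isInvertible L hL
  refine ⟨L, hL, ?_⟩
  -- comparison on `X₀`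
  have hpre : ∀ k, X₀.basicOpen ((i.app (V k)).hom (tt k)) = i ⁻¹ᵁ X.basicOpen (tt k) := fun k =>
    (Scheme.preimage_basicOpen i (tt k)).symm
  have hVU' : ∀ k : κ, i ⁻¹ᵁ V k ≤ i ⁻¹ᵁ U k.1 := fun k x hx => hVU k hx
  refine nonempty_iso_of_family (i ⁻¹ᵁ V₀) (fun k => i ⁻¹ᵁ V k)
    (fun k => (i.app (V k)).hom (tt k)) (fun x => ?_) (fun k => ?_) (fun k l hne => ?_)
    (pbHom i s') s ?_ ?_ (fun k => pbSec i L (le_refl _) (e' k))
    (fun k => M.presheaf.map (homOfLE (hVU' k)).op (e k.1)) (fun k => (he' k).pullback i _)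
    (fun k => (he k.1).mono (hVU' k)) (fun k => ?_) (fun k => ?_)
  · rcases hcov (i.base x) with h | ⟨k, hk⟩
    · exact Or.inl h
    · exact Or.inr ⟨k, hk⟩
  · rw [hpre]
    exact fun x hx => h0 k ⟨hx.1, hx.2⟩
  · rw [hpre]
    exact fun x hx => hkl k l hne ⟨hx.1, hx.2⟩
  · rw [genLocus_pbHom i hL s']
    exact fun x hx => hs₀' hx
  · intro x hx
    by_contra hxg
    exact hx (Set.mem_iUnion.mpr ⟨⟨x, hxg⟩, hzC ⟨x, hxg⟩⟩)
  · rw [val_pbHom i s' (le_refl (i ⁻¹ᵁ V k)), hs' k, pbSec_smul, Scheme.Hom.appLE_eq_app]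
  · rw [← QC.val_res s (hVU' k), hse k.1]
    change mres M (hVU' k) _ = _
    rw [mres_smul]
    congr 1
    show res (hVU' k) ((i.app (U k.1)).hom (t k.1)) = (i.app (V k)).hom (res (hVU k) (t k.1))
    rw [Scheme.Hom.app_eq_appLE, Scheme.Hom.app_eq_appLE, res_appLE, appLE_res_left]

end Groth.Agent.H5.Lift
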