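import Mathlib
import Groth.Agent.Lib.Helper5.Lift.D
import Groth.Agent.Lib.Helper5.FinSec.B
import Groth.Agent.Lib.Helper5.Glue.F
import Groth.Agent.H4.PicDim1
import Groth.Agent.Lib.Lead.QC.TensorComm
import Groth.Agent.Lib.Lead.QC.TensorDesc
import Groth.Agent.Lib.Lead.QC.PullInv

/-!
# Surjectivity of `Pic X → Pic X₀` for a closed subscheme of dimension `≤ 1` with an ample module
-/

set_option autoImplicit false
universe u
open CategoryTheory CategoryTheory.Limits AlgebraicGeometry TopologicalSpace Opposite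

namespace Groth.Agent.H5.Lift

open Groth.Agent.LD Groth.Agent.LD.QC Groth.Agent.H5.Glue Groth.Agent.H5.Ext

variable {X X₀ : Scheme.{u}} (i : X₀ ⟶ X) [IsClosedImmersion i]

/-- `N ≅ i^*(L₁ ⊗ L₂')` when `i^*L₁ ≅ N ⊗ P`, `i^*L₂ ≅ P` and `L₂ ⊗ L₂' ≅ O`. -/
theorem nonempty_pullback_iso_of_difference (N P : X₀.Modules) [N.IsQuasicoherent]
    [P.IsQuasicoherent]
    (L₁ L₂ L₂' : X.Modules) (hL₁ : PicF.IsInvertible L₁) (hL₂ : PicF.IsInvertible L₂)
    (hL₂' : PicF.IsInvertible L₂')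
    (φ₁ : (Scheme.Modules.pullback i).obj L₁ ≅ CohB1.tensorMod N P)
    (φ₂ : (Scheme.Modules.pullback i).obj L₂ ≅ P)
    (ε : CohB1.tensorMod L₂ L₂' ≅ unitMod X) :
    Nonempty ((Scheme.Modules.pullback i).obj (CohB1.tensorMod L₁ L₂') ≅ N) := by
  haveI := qc_of_isInvertible _ (isInvertible_pullback i hL₂')
  have e1 : CohB1.tensorMod P ((Scheme.Modules.pullback i).obj L₂') ≅ unitMod X₀ :=
    tensorIso' φ₂.symm (Iso.refl _) ≪≫ (pbTensorIso i L₂ L₂' hL₂ hL₂').symm ≪≫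
      (Scheme.Modules.pullback i).mapIso ε ≪≫ pbUnitIso i
  exact ⟨pbTensorIso i L₁ L₂' hL₁ hL₂' ≪≫ tensorIso' φ₁ (Iso.refl _) ≪≫
    tensorAssoc N P _ ≪≫ tensorIso' (Iso.refl N) e1 ≪≫ SecTwist.unitorR N⟩

/-- **Surjectivity of `Pic X → Pic X₀`** for a closed subscheme `X₀` of dimension `≤ 1` carrying an
ample invertible module, when every nonempty connected closed subset of the Noetherian scheme `X`
meets `X₀` in a nonempty connected set. -/
theorem exists_lift_of_ample [IsNoetherian X] (ha : topologicalKrullDim X₀ ≤ 1)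
    (hb : ∀ Y : Set X, IsClosed Y → Y.Nonempty → _root_.IsConnected Y →
      (Y ∩ Set.range i.base).Nonempty ∧ _root_.IsConnected (Y ∩ Set.range i.base))
    (L₀ : X₀.Modules) (hL₀ : CohB1.IsAmple L₀) (N : X₀.Modules) (hN : PicF.IsInvertible N) :
    ∃ L : X.Modules, PicF.IsInvertible L ∧
      Nonempty ((Scheme.Modules.pullback i).obj L ≅ N) := by
  classical
  haveI : IsLocallyNoetherian X₀ := LocallyOfFiniteType.isLocallyNoetherian i
  haveI : CompactSpace X₀ := hL₀.2.1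
  haveI : IsNoetherian X₀ := {}
  haveI : X₀.IsSeparated := isSeparated_of_affine_genLocus L₀ hL₀.1 hL₀.2.2
  haveI hLqc : L₀.IsQuasicoherent := qc_of_isInvertible L₀ hL₀.1
  haveI hNqc : N.IsQuasicoherent := qc_of_isInvertible N hN
  obtain ⟨E, -, hE, -⟩ := Groth.Agent.H4.PicDim1.exists_maxpts (Y := X₀)
  obtain ⟨n₁, hn₁, hsec⟩ := Groth.Agent.H5.FinSec.exists_twisted_sections L₀ hL₀ N hN E
  obtain ⟨n₀, t, htZ, -, -⟩ :=
    exists_affine_genLocus_finset L₀ hL₀ _ E rfl ⊤ (fun _ _ => trivial)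
  obtain ⟨j, rfl⟩ : ∃ j, n₁ = j + 1 := ⟨n₁ - 1, by omega⟩
  have hidx : (n₀ + 1) * (j + 1) = powIdx (n₀ + 1) (j + 1) := (powIdx_eq _ _).symm
  have hsec' := hsec (n₀ + 1) (by omega)
  rw [hidx] at hsec'
  obtain ⟨b, hbE⟩ := hsec'
  let a : unitMod X₀ ⟶ CohB1.tensorPow L₀ (powIdx (n₀ + 1) (j + 1)) := secMulPow L₀ t (j + 1)
  have haE : CohB1.genLocus _ a = CohB1.genLocus _ t := genLocus_secMulPow hL₀.1 t j
  have hP : PicF.IsInvertible (CohB1.tensorPow L₀ (powIdx (n₀ + 1) (j + 1))) :=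
    isInvertible_tensorPow hL₀.1 _
  have hNP : PicF.IsInvertible
      (CohB1.tensorMod N (CohB1.tensorPow L₀ (powIdx (n₀ + 1) (j + 1)))) :=
    isInvertible_tensorMod hN hP
  haveI hPqc := qc_of_isInvertible _ hP
  -- finiteness of the bad loci
  have hfa := Groth.Agent.H4.PicDim1.finite_closedPts ha (CohB1.genLocus _ a)
    (fun z hz => by rw [haE]; exact htZ z (hE z hz))
  have hfb := Groth.Agent.H4.PicDim1.finite_closedPts ha (CohB1.genLocus _ b)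
    (fun z hz => hbE z (hE z hz))
  obtain ⟨L₁, hL₁, ⟨φ₁⟩⟩ := exists_lift i hb _ hNP b hfb.1 hfb.2
  obtain ⟨L₂, hL₂, ⟨φ₂⟩⟩ := exists_lift i hb _ hP a hfa.1 hfa.2
  obtain ⟨L₂', hL₂', ⟨ε⟩⟩ := Groth.Agent.H5.Glue.exists_inverse L₂ hL₂
  exact ⟨CohB1.tensorMod L₁ L₂', isInvertible_tensorMod hL₁ hL₂',
    nonempty_pullback_iso_of_difference i N _ L₁ L₂ L₂' hL₁ hL₂ hL₂' φ₁ φ₂ ε⟩

end Groth.Agent.H5.Lift
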