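import Mathlib
import Groth.Agent.Lib.Helper5.Lift.E
import Groth.Agent.Lib.Helper6.HC2
import Groth.Agent.Lib.Helper5.Pole.G

/-!
# Proper schemes over a Noetherian henselian local ring: `Pic X → Pic X₀` is surjective when the
fibres have dimension `≤ 1`
-/

set_option autoImplicit false
universe u
open CategoryTheory CategoryTheory.Limits AlgebraicGeometry TopologicalSpace Opposite

namespace Groth.Agent.H5.Lift

lemma zeroLocus_maximalIdeal (A : Type u) [CommRing A] [IsLocalRing A] :
    PrimeSpectrum.zeroLocus (IsLocalRing.maximalIdeal A : Set A) = {IsLocalRing.closedPoint A} := by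
  ext p
  rw [PrimeSpectrum.mem_zeroLocus, Set.mem_singleton_iff]
  constructor
  · intro h
    apply PrimeSpectrum.ext
    exact ((IsLocalRing.maximalIdeal.isMaximal A).eq_of_le p.2.ne_top h).symm
  · rintro rfl
    exact le_refl _

lemma range_specMap_mk (A : Type u) [CommRing A] [IsLocalRing A] :
    Set.range (Spec.map (CommRingCat.ofHom
      (Ideal.Quotient.mk (IsLocalRing.maximalIdeal A)))).base = {IsLocalRing.closedPoint A} := by
  change Set.range (PrimeSpectrum.comap (Ideal.Quotient.mk (IsLocalRing.maximalIdeal A))) = _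
  rw [range_comap_of_surjective _ _ Ideal.Quotient.mk_surjective, Ideal.mk_ker,
    zeroLocus_maximalIdeal]
  rfl

/-- **Connectedness over a henselian base.**  For `X` proper over a Noetherian henselian local ring
and `i : X₀' → X` a closed immersion onto the closed fibre, every nonempty connected closed subset of
`X` meets the closed fibre in a nonempty connected set. -/
theorem connected_inter_of_henselian (A : Type u) [CommRing A] [IsNoetherianRing A]
    [HenselianLocalRing A] (X : Scheme.{u}) (f : X ⟶ Spec (CommRingCat.of A)) [IsProper f]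
    (X₀' : Scheme.{u}) (i : X₀' ⟶ X) [IsClosedImmersion i]
    (hi : Set.range i.base = f.base ⁻¹' {IsLocalRing.closedPoint A})
    (Y : Set X) (hY : IsClosed Y) (hne : Y.Nonempty) (hconn : _root_.IsConnected Y) :
    (Y ∩ Set.range i.base).Nonempty ∧ _root_.IsConnected (Y ∩ Set.range i.base) := by
  let J : X.IdealSheafData := Scheme.IdealSheafData.vanishingIdeal ⟨Y, hY⟩
  have hJ : Set.range J.subschemeι.base = Y := by
    rw [Scheme.IdealSheafData.range_subschemeι]
    exact Scheme.IdealSheafData.coe_support_vanishingIdeal _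
  let h : J.subscheme ⟶ Spec (CommRingCat.of A) := J.subschemeι ≫ f
  let j : pullback J.subschemeι i ⟶ J.subscheme := pullback.fst J.subschemeι i
  have hrange : Set.range j.base = h.base ⁻¹' Set.range (Spec.map (CommRingCat.ofHom
      (Ideal.Quotient.mk (IsLocalRing.maximalIdeal A)))).base := by
    rw [range_specMap_mk]
    have := Scheme.Pullback.range_fst J.subschemeι i
    rw [this, hi]
    rfl
  -- nonempty
  have hne' : (Y ∩ Set.range i.base).Nonempty := by
    obtain ⟨y, hy⟩ := hne
    rw [← hJ] at hy
    obtain ⟨y', rfl⟩ := hy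
    have hcl : IsClosed (Set.range h.base) := h.isClosedMap.isClosed_range
    have hmem : IsLocalRing.closedPoint A ∈ Set.range h.base :=
      (IsLocalRing.specializes_closedPoint (h.base y')).mem_closed hcl ⟨y', rfl⟩
    obtain ⟨w, hw⟩ := hmem
    refine ⟨J.subschemeι.base w, ?_, ?_⟩
    · rw [← hJ]; exact ⟨w, rfl⟩
    · rw [hi]; exact hw
  refine ⟨hne', hne', ?_⟩
  -- preconnected
  haveI hpre : PreconnectedSpace J.subscheme := by
    rw [preconnectedSpace_iff_univ,
      ← J.subschemeι.isClosedEmbedding.isInducing.isPreconnected_image, Set.image_univ]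
    rw [hJ]
    exact hconn.isPreconnected
  haveI hpre₀ : PreconnectedSpace ↥(pullback J.subschemeι i) := by
    rw [preconnectedSpace_iff_clopen]
    intro V hV
    obtain ⟨U, ⟨hUcl, hU⟩, -⟩ := Groth.Agent.H6.HC.couple_of_proper A (IsLocalRing.maximalIdeal A)
      h j hrange V hV
    rcases isClopen_iff.mp hUcl with rfl | rfl
    · left; rw [← hU]; rfl
    · right; rw [← hU]; rfl
  have himg : (j ≫ J.subschemeι).base '' Set.univ = Y ∩ Set.range i.base := by
    ext x
    constructor
    · rintro ⟨w, -, rfl⟩
      refine ⟨?_, ?_⟩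
      · rw [← hJ]; exact ⟨j.base w, rfl⟩
      · have hw : j.base w ∈ Set.range j.base := ⟨w, rfl⟩
        rw [Scheme.Pullback.range_fst J.subschemeι i] at hw
        exact hw
    · rintro ⟨hxY, hxi⟩
      rw [← hJ] at hxY
      obtain ⟨y, rfl⟩ := hxY
      have hy : y ∈ Set.range j.base := by
        rw [Scheme.Pullback.range_fst J.subschemeι i]; exact hxi
      obtain ⟨w, rfl⟩ := hy
      exact ⟨w, trivial, rfl⟩
  rw [← himg]
  exact isPreconnected_univ.image _ (j ≫ J.subschemeι).continuous.continuousOn

/-- **`Pic X → Pic X₀'` is surjective** for `X` proper over a Noetherian henselian local ring with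
closed fibre of dimension `≤ 1`. -/
theorem exists_lift_of_henselian (A : Type u) [CommRing A] [IsNoetherianRing A]
    [HenselianLocalRing A] (X : Scheme.{u}) (f : X ⟶ Spec (CommRingCat.of A)) [IsProper f]
    (hrel : topologicalKrullDim ↥(f.fiber (IsLocalRing.closedPoint A)) ≤ 1)
    (X₀' : Scheme.{u}) (i : X₀' ⟶ X) [IsClosedImmersion i]
    (hi : Set.range i.base = f.base ⁻¹' {IsLocalRing.closedPoint A})
    (N : X₀'.Modules) (hN : PicF.IsInvertible N) :
    ∃ L : X.Modules, PicF.IsInvertible L ∧
      Nonempty ((Scheme.Modules.pullback i).obj L ≅ N) := by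
  haveI : IsLocallyNoetherian X := LocallyOfFiniteType.isLocallyNoetherian f
  haveI : CompactSpace X := QuasiCompact.compactSpace_of_compactSpace f
  haveI : IsNoetherian X := {}
  haveI : X.IsSeparated := ⟨by rw [← terminal.comp_from f]; infer_instance⟩
  haveI : IsLocallyNoetherian X₀' := LocallyOfFiniteType.isLocallyNoetherian i
  haveI : CompactSpace X₀' := QuasiCompact.compactSpace_of_compactSpace i
  haveI : IsNoetherian X₀' := {}
  haveI : X₀'.IsSeparated := ⟨by rw [← terminal.comp_from i]; infer_instance⟩
  have hdim : topologicalKrullDim X₀' ≤ 1 := by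
    let φ : X₀' → f.base ⁻¹' {IsLocalRing.closedPoint A} :=
      Set.codRestrict i.base _ (fun x => by rw [← hi]; exact ⟨x, rfl⟩)
    have hφ : Topology.IsInducing φ := i.isClosedEmbedding.isInducing.codRestrict _
    have h2 : Topology.IsInducing ((f.fiberHomeo _).symm ∘ φ) :=
      (f.fiberHomeo _).symm.isInducing.comp hφ
    exact h2.topologicalKrullDim_le.trans hrel
  obtain ⟨L₀, hL₀⟩ := Groth.Agent.H5.Pole.exists_isAmple (X := X₀') hdim
  exact exists_lift_of_ample i hdim
    (fun Y hY hne hc => connected_inter_of_henselian A X f X₀' i hi Y hY hne hc) L₀ hL₀ N hN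

end Groth.Agent.H5.Lift
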