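import Mathlib
import Groth.Agent.Lib.Helper5.Lift.D2
import Groth.Agent.Lib.Helper5.Lift.E
import Groth.Agent.Lib.Helper5.Ext.C
import Groth.Agent.Lib.Helper5.FinSec.A
import Groth.Agent.Lib.Helper5.CV.A
import Groth.Agent.Lib.Lead.QC.ClaimA
import Groth.Agent.Lib.Lead.QC.RestrictOpen
import Groth.Agent.Lib.Lead.QC.InvBasis
import Groth.Agent.Lib.Lead.Curve.Proper

/-!
# Surjectivity of `Pic X → Pic X₀` for a closed subscheme of dimension `≤ 1` with an affine open
containing the maximal points (EGA IV 21.9.11)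
-/

set_option autoImplicit false
universe u
open CategoryTheory CategoryTheory.Limits AlgebraicGeometry TopologicalSpace Opposite

namespace Groth.Agent.H5.Lift

open Groth.Agent.LD Groth.Agent.LD.QC Groth.Agent.H5.Glue Groth.Agent.H5.Ext

/-- a maximal point of a locally Noetherian scheme is an associated point of the structure sheaf. -/
theorem isAssociatedPrime_of_maximal {Y : Scheme.{u}} [IsLocallyNoetherian Y] (e : Y)
    (he : ∀ x : Y, x ⤳ e → x = e) :
    IsAssociatedPrime (IsLocalRing.maximalIdeal (Y.presheaf.stalk e)) (Y.presheaf.stalk e) := by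
  obtain ⟨p, hp⟩ := associatedPrimes.nonempty (Y.presheaf.stalk e) (Y.presheaf.stalk e)
  have hp' : IsAssociatedPrime p (Y.presheaf.stalk e) := hp
  have hprime := hp'.isPrime
  let P : PrimeSpectrum (Y.presheaf.stalk e) := ⟨p, hprime⟩
  have h1 : Y.fromSpecStalk e P = e := by
    apply he
    have : Y.fromSpecStalk e P ∈ Set.range (Y.fromSpecStalk e) := Set.mem_range_self P
    rw [Scheme.range_fromSpecStalk] at this
    exact this
  have h2 : Y.fromSpecStalk e (IsLocalRing.closedPoint _) = e := Scheme.fromSpecStalk_closedPoint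
  have h3 : P = IsLocalRing.closedPoint _ :=
    (Y.fromSpecStalk e).isEmbedding.injective (h1.trans h2.symm)
  have h4 : p = IsLocalRing.maximalIdeal _ := congrArg PrimeSpectrum.asIdeal h3
  rwa [← h4]

variable {X X₀ : Scheme.{u}} (i : X₀ ⟶ X) [IsClosedImmersion i]

/-- if `P` lifts, then `N` lifts as soon as `N ⊗ P^n` lifts. -/
theorem exists_lift_of_twistPow (P : X₀.Modules) (hP : PicF.IsInvertible P) (L₂ : X.Modules)
    (hL₂ : PicF.IsInvertible L₂) (φ₂ : (Scheme.Modules.pullback i).obj L₂ ≅ P) :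
    ∀ (n : ℕ) (N : X₀.Modules) (_ : PicF.IsInvertible N),
      (∃ L₁ : X.Modules, PicF.IsInvertible L₁ ∧ Nonempty ((Scheme.Modules.pullback i).obj L₁ ≅
        CohB1.tensorMod N (CohB1.tensorPow P n))) →
      ∃ L : X.Modules, PicF.IsInvertible L ∧ Nonempty ((Scheme.Modules.pullback i).obj L ≅ N) := by
  intro n
  induction n with
  | zero =>
    rintro N hN ⟨L₁, hL₁, ⟨φ⟩⟩
    exact ⟨L₁, hL₁, ⟨φ ≪≫ SecTwist.unitorR N⟩⟩
  | succ n ih =>
    rintro N hN ⟨L₁, hL₁, ⟨φ⟩⟩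
    haveI := qc_of_isInvertible _ hP
    haveI := qc_of_isInvertible _ hN
    have hPn : PicF.IsInvertible (CohB1.tensorPow P n) := isInvertible_tensorPow hP n
    haveI := qc_of_isInvertible _ hPn
    have hNP := isInvertible_tensorMod hN hPn
    haveI := qc_of_isInvertible _ hNP
    obtain ⟨L₂', hL₂', ⟨ε⟩⟩ := Groth.Agent.H5.Glue.exists_inverse L₂ hL₂
    have h3 := nonempty_pullback_iso_of_difference i (CohB1.tensorMod N (CohB1.tensorPow P n)) P
      L₁ L₂ L₂' hL₁ hL₂ hL₂' (φ ≪≫ (tensorAssoc N (CohB1.tensorPow P n) P).symm) φ₂ ε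
    exact ih N hN ⟨_, isInvertible_tensorMod hL₁ hL₂', h3⟩

/-- **EGA IV 21.9.11 (core).**  Let `i : X₀ → X` be a closed immersion with `X` Noetherian,
`dim X₀ ≤ 1`, with the topological lifting property `HasComponents`, and with an affine open `U₀` of
`X₀` containing all maximal points.  Then `Pic X → Pic X₀` is surjective. -/
theorem exists_lift_of_affine [IsNoetherian X] (h1 : topologicalKrullDim X₀ ≤ 1)
    (hcomp : HasComponents (Set.range i.base))
    (U₀ : X₀.Opens) (hU₀ : IsAffineOpen U₀)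
    (hmax : ∀ z : X₀, (∀ x : X₀, x ⤳ z → x = z) → z ∈ U₀)
    (L₀ : X₀.Modules) (hL₀ : PicF.IsInvertible L₀) :
    ∃ L : X.Modules, PicF.IsInvertible L ∧
      Nonempty ((Scheme.Modules.pullback i).obj L ≅ L₀) := by
  classical
  haveI : IsLocallyNoetherian X₀ := LocallyOfFiniteType.isLocallyNoetherian i
  haveI : CompactSpace X₀ := QuasiCompact.compactSpace_of_compactSpace i
  haveI : IsNoetherian X₀ := {}
  obtain ⟨E, -, hE, -⟩ := Groth.Agent.H4.PicDim1.exists_maxpts (Y := X₀)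
  haveI : IsAffine U₀.toScheme := hU₀
  obtain ⟨t, ht⟩ := Groth.Agent.H5.FinSec.exists_section_of_finite (L₀.restrict U₀.ι)
    (isInvertible_restrict U₀.ι hL₀) (E.subtype (· ∈ U₀))
  obtain ⟨V', hV'⟩ : ∃ V' : X₀.Opens, V' = U₀.ι ''ᵁ CohB1.genLocus _ t := ⟨_, rfl⟩
  have hgen : ∀ z : X₀, (∀ x : X₀, x ⤳ z → x = z) → z ∈ V' := by
    intro z hz
    rw [hV']
    have hzU : z ∈ U₀ := hmax z hz
    refine ⟨⟨z, hzU⟩, ht _ ?_, rfl⟩
    exact Finset.mem_subtype.mpr (hE z hz)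
  obtain ⟨hfin, hcl⟩ := Groth.Agent.H4.PicDim1.finite_closedPts h1 V' hgen
  have hdisc : DiscreteTopology ↥((V' : Set X₀)ᶜ) := by
    haveI : Finite ↥((V' : Set X₀)ᶜ) := hfin.to_subtype
    haveI : T1Space ↥((V' : Set X₀)ᶜ) := by
      refine ⟨fun z => ?_⟩
      have := (hcl z.1 z.2).preimage (continuous_subtype_val (p := (· ∈ (V' : Set X₀)ᶜ)))
      convert this using 1
      ext w
      simp [Subtype.ext_iff]
    infer_instance
  obtain ⟨P, p, hP, hPV⟩ := Groth.Agent.H5.Ext.exists_invertible_genLocus_eq V' hdisc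
    (fun x _ => ⟨inferInstance, (Groth.Agent.LD.Curve.ringKrullDim_stalk_le X₀ x).trans h1⟩)
  -- basis of `L₀` over `V'`
  have hb : IsBasisOver (L₀.restrict U₀.ι) (CohB1.genLocus _ t)
      (SecTwist.val t (CohB1.genLocus _ t)) :=
    (le_genLocus_iff_isBasisOver _ t _).mp le_rfl
  have hb' : ∃ e₀ : Γ(L₀, CohB1.genLocus P p), IsBasisOver L₀ (CohB1.genLocus P p) e₀ := by
    rw [hPV, hV']
    exact ⟨_, (isBasisOver_restrict_iff U₀.ι L₀ _ _).mp hb⟩
  obtain ⟨e₀, he₀⟩ := hb'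
  haveI := isIso_homOfSecOver L₀ _ e₀ he₀
  have hσ : CohB1.genLocus _ (homOfSecOver L₀ _ e₀) = ⊤ :=
    Groth.Agent.H5.CV.genLocus_eq_top_of_isIso _
  obtain ⟨n, T, hT⟩ := exists_genLocus_eq_image_twist P hP p L₀ hL₀ (homOfSecOver L₀ _ e₀)
  have hT' : CohB1.genLocus _ T = V' := by
    rw [hT, hσ, Scheme.Hom.image_top_eq_opensRange, Scheme.Opens.opensRange_ι, hPV]
  have hPn : PicF.IsInvertible (CohB1.tensorPow P n) := isInvertible_tensorPow hP n
  have hM₁ : PicF.IsInvertible (CohB1.tensorMod (CohB1.tensorMod L₀ (CohB1.tensorPow P n)) P) :=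
    isInvertible_tensorMod (isInvertible_tensorMod hL₀ hPn) hP
  haveI := qc_of_isInvertible _ hP
  haveI := qc_of_isInvertible _ (isInvertible_tensorMod hL₀ hPn)
  obtain ⟨L₁, hL₁, ⟨φ₁⟩⟩ := exists_lift' i hcomp _ hM₁ T (by rw [hT']; exact hfin)
    (by rw [hT']; exact hcl)
  obtain ⟨L₂, hL₂, ⟨φ₂⟩⟩ := exists_lift' i hcomp P hP p (by rw [hPV]; exact hfin)
    (by rw [hPV]; exact hcl)
  obtain ⟨L₂', hL₂', ⟨ε⟩⟩ := Groth.Agent.H5.Glue.exists_inverse L₂ hL₂
  have h3 := nonempty_pullback_iso_of_difference i (CohB1.tensorMod L₀ (CohB1.tensorPow P n)) P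
    L₁ L₂ L₂' hL₁ hL₂ hL₂' φ₁ φ₂ ε
  exact exists_lift_of_twistPow i P hP L₂ hL₂ φ₂ n L₀ hL₀
    ⟨_, isInvertible_tensorMod hL₁ hL₂', h3⟩

end Groth.Agent.H5.Lift
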